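import Cfsg.Agent.Lib.G2Orders.Roots
import Cfsg.Agent.Lib.G2Octonion.Basic

/-! The cubic equation of a `3 × 3` matrix of determinant one in characteristic two. -/

set_option autoImplicit false

namespace Cfsg.Agent.G2Orders

open Polynomial Matrix G2Oct

variable {K : Type*} [Field K]

theorem cayley3 (A : Matrix (Fin 3) (Fin 3) K) :
    A ^ 3 - A.trace • A ^ 2 + (cof A).trace • A - A.det • (1 : Matrix (Fin 3) (Fin 3) K) = 0 := by
  ext i j
  fin_cases i <;> fin_cases j <;>
    simp [pow_succ, pow_zero, Matrix.mul_apply, Fin.sum_univ_three, Matrix.trace, cof, Matrix.det_fin_three] <;> ring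

theorem cof_cof (A : Matrix (Fin 3) (Fin 3) K) : cof (cof A) = A.det • A := by
  ext i j
  fin_cases i <;> fin_cases j <;> simp [cof, Matrix.det_fin_three] <;> ring

theorem det_cof (A : Matrix (Fin 3) (Fin 3) K) : (cof A).det = A.det ^ 2 := by
  simp [cof, Matrix.det_fin_three]; ring

theorem cof_one : cof (1 : Matrix (Fin 3) (Fin 3) K) = 1 := by
  ext i j; fin_cases i <;> fin_cases j <;> simp [cof, Matrix.one_apply]

theorem trace_conj {B Bi A : Matrix (Fin 3) (Fin 3) K} (h : Bi * B = 1) : (B * A * Bi).trace = A.trace := by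
  rw [Matrix.trace_mul_comm, ← Matrix.mul_assoc, h, Matrix.one_mul]

theorem exists_cub {L : Type*} [Field L] [IsAlgClosed L] [CharP L 2] (t s : L) :
    ∃ a b c : L, t = a + b + c ∧ s = a * b + a * c + b * c ∧ a * b * c = 1 := by
  obtain ⟨a, ha⟩ := IsAlgClosed.exists_root (X ^ 3 + C t * X ^ 2 + C s * X + C 1 : L[X])
    (by
      have h : (X ^ 3 + C t * X ^ 2 + C s * X + C 1 : L[X]).degree = 3 := by compute_degree!
      rw [h]; decide)
  simp [IsRoot] at ha
  obtain ⟨b, hb⟩ := IsAlgClosed.exists_root (X ^ 2 + C (t + a) * X + C (s + a * (t + a)) : L[X])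
    (by
      have h : (X ^ 2 + C (t + a) * X + C (s + a * (t + a)) : L[X]).degree = 2 := by compute_degree!
      rw [h]; decide)
  simp [IsRoot] at hb
  have h2 : (2 : L) = 0 := CharTwo.two_eq_zero
  refine ⟨a, b, t + a + b, by linear_combination -(a + b) * h2, ?_, ?_⟩
  · linear_combination hb - (a * t + a ^ 2 + b * t + 2 * a * b + b ^ 2) * h2
  · linear_combination ha + a * hb - (1 + a * s + a ^ 2 * t + a ^ 3) * h2

/-- The exponents attached to a matrix with invariants fixed or exchanged by `x ↦ x ^ q`. -/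
theorem exists_exp_matrix [CharP K 2] {k q : ℕ} (hk : 1 ≤ k) (hq : q = 2 ^ k) (A : Matrix (Fin 3) (Fin 3) K)
    (hdet : A.det = 1) (e : Bool)
    (h : if e then (A.trace ^ q = A.trace ∧ (cof A).trace ^ q = (cof A).trace)
      else (A.trace ^ q = (cof A).trace ∧ (cof A).trace ^ q = A.trace)) :
    ∃ n ∈ expList q, A ^ n = 1 := by
  let L := AlgebraicClosure K
  haveI : CharP L 2 := charP_of_injective_algebraMap (algebraMap K L).injective 2
  obtain ⟨ι, hι⟩ : ∃ ι : K →+* L, ι = algebraMap K L := ⟨_, rfl⟩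
  obtain ⟨a, b, c, ht, hs, h1⟩ := exists_cub (ι A.trace) (ι (cof A).trace)
  have h2 : (2 : L) = 0 := CharTwo.two_eq_zero
  obtain ⟨B, hB⟩ : ∃ B : Matrix (Fin 3) (Fin 3) L, B = A.map ι := ⟨_, rfl⟩
  have hcub : B ^ 3 + (ι A.trace) • B ^ 2 + (ι (cof A).trace) • B + 1 = 0 := by
    have h0 := cayley3 B
    have e1 : B.trace = ι A.trace := by
      rw [hB]; simp [Matrix.trace, Fin.sum_univ_three]
    have e2 : (cof B).trace = ι (cof A).trace := by
      rw [hB]; simp [Matrix.trace, cof, Fin.sum_univ_three, map_sub, map_mul]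
    have e3 : B.det = 1 := by
      rw [hB]
      exact (ι.map_det A).symm.trans (by rw [hdet, map_one])
    rw [e1, e2, e3, one_smul] at h0
    ext i j
    have h00 := congrFun (congrFun h0 i) j
    simp only [Matrix.add_apply, Matrix.sub_apply, Matrix.smul_apply, Matrix.zero_apply] at h00 ⊢
    simp only [CharTwo.sub_eq_add] at h00
    exact h00
  have hA : aeval B (cub a b c) = 0 := by
    have : cub a b c = X ^ 3 + C (ι A.trace) * X ^ 2 + C (ι (cof A).trace) * X + 1 := by
      rw [cub, ht, hs, sub_eq_add_two, sub_eq_add_two, sub_eq_add_two, ← C_1 (R := L), ← h1]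
      simp only [map_add, map_mul]; ring
    rw [this]
    simp only [map_add, map_mul, map_pow, aeval_X, aeval_C, map_one, Algebra.algebraMap_eq_smul_one,
      smul_mul_assoc, one_mul]
    exact hcub
  have hroot : ∀ x, x = a ∨ x = b ∨ x = c ↔ x ^ 3 + ι A.trace * x ^ 2 + ι (cof A).trace * x + 1 = 0 := by
    intro x
    have key : x ^ 3 + ι A.trace * x ^ 2 + ι (cof A).trace * x + 1 = (x + a) * (x + b) * (x + c) := by
      rw [ht, hs, ← h1]; ring
    rw [key, mul_eq_zero, mul_eq_zero, CharTwo.add_eq_zero, CharTwo.add_eq_zero, CharTwo.add_eq_zero]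
    tauto
  have hadd : ∀ x y : L, (x + y) ^ q = x ^ q + y ^ q := fun x y => by
    rw [hq]; exact add_pow_char_pow x y 2 k
  obtain ⟨n, hn, hpow⟩ := exists_exp (q := q) (by rw [hq]; exact Nat.le_self_pow (by omega) 2) hadd hA h1 e
    fun x hx => by
      rw [hroot] at hx
      have hx0 : x ≠ 0 := fun h0 => by simp [h0] at hx
      have hx1 := congrArg (fun z : L => z ^ q) hx
      simp only [hadd, mul_pow, one_pow, ← map_pow ι] at hx1
      rw [zero_pow (by rw [hq]; positivity)] at hx1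
      cases he : e
      · rw [he] at h
        simp only [Bool.false_eq_true, if_false] at h ⊢
        rw [hroot]
        rw [h.1, h.2] at hx1
        have hy : x ^ q ≠ 0 := pow_ne_zero _ hx0
        rw [← pow_mul, ← pow_mul, mul_comm 3, mul_comm 2, pow_mul, pow_mul] at hx1
        show ((x ^ q)⁻¹) ^ 3 + _ * ((x ^ q)⁻¹) ^ 2 + _ * (x ^ q)⁻¹ + 1 = 0
        apply mul_right_cancel₀ (pow_ne_zero 3 hy)
        rw [zero_mul]
        calc _ = (x ^ q * (x ^ q)⁻¹) ^ 3 + ι A.trace * (x ^ q * (x ^ q)⁻¹) ^ 2 * x ^ q +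
              ι (cof A).trace * (x ^ q * (x ^ q)⁻¹) * (x ^ q) ^ 2 + (x ^ q) ^ 3 := by ring
          _ = _ := by rw [mul_inv_cancel₀ hy]; linear_combination hx1
      · rw [he] at h
        simp only [if_true] at h ⊢
        rw [hroot]
        rw [h.1, h.2] at hx1
        rw [← pow_mul, ← pow_mul, mul_comm 3, mul_comm 2, pow_mul, pow_mul] at hx1
        exact hx1
  refine ⟨n, hn, ?_⟩
  have hinj : Function.Injective (fun M : Matrix (Fin 3) (Fin 3) K => M.map ι) :=
    fun M N hMN => Matrix.ext fun i j => ι.injective (congrFun (congrFun hMN i) j)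
  apply hinj
  show (A ^ n).map ι = (1 : Matrix (Fin 3) (Fin 3) K).map ι
  rw [Matrix.map_one ι ι.map_zero ι.map_one, ← hpow, hB]
  exact map_pow (RingHom.mapMatrix ι) A n

/-- The exponents for the square of an outer element. -/
theorem outer_exp [CharP K 2] {q : ℕ} (hq : 2 ≤ q) {A : Matrix (Fin 3) (Fin 3) K} (hdet : A.det = 1)
    (hsym : (cof A).trace = A.trace) (hfix : A.trace ^ q = A.trace)
    (hadd : ∀ x y : AlgebraicClosure K, (x + y) ^ q = x ^ q + y ^ q) :
    A ^ 4 = 1 ∨ A ^ (q - 1) = 1 ∨ A ^ (q + 1) = 1 := by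
  let L := AlgebraicClosure K
  haveI : CharP L 2 := charP_of_injective_algebraMap (algebraMap K L).injective 2
  obtain ⟨ι, hι⟩ : ∃ ι : K →+* L, ι = algebraMap K L := ⟨_, rfl⟩
  obtain ⟨t, htd⟩ : ∃ t, t = ι A.trace := ⟨_, rfl⟩
  obtain ⟨b, hb⟩ := IsAlgClosed.exists_root (X ^ 2 + C (t + 1) * X + C 1 : L[X])
    (by
      have h : (X ^ 2 + C (t + 1) * X + C 1 : L[X]).degree = 2 := by compute_degree!
      rw [h]; decide)
  simp [IsRoot] at hb
  have hb0 : b ≠ 0 := fun h => by simp [h] at hb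
  have h2 : (2 : L) = 0 := CharTwo.two_eq_zero
  have hbb : t + 1 = b + b⁻¹ := by
    apply mul_right_cancel₀ hb0
    rw [add_mul b b⁻¹ b, inv_mul_cancel₀ hb0]
    linear_combination hb - (b * b + 1) * h2
  obtain ⟨B, hB⟩ : ∃ B : Matrix (Fin 3) (Fin 3) L, B = A.map ι := ⟨_, rfl⟩
  have hcub : B ^ 3 + t • B ^ 2 + t • B + 1 = 0 := by
    have h0 := cayley3 B
    have e1 : B.trace = t := by
      rw [hB, htd]; simp [Matrix.trace, Fin.sum_univ_three]
    have e2 : (cof B).trace = t := by
      rw [hB, htd, ← hsym]; simp [Matrix.trace, cof, Fin.sum_univ_three, map_sub, map_mul]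
    have e3 : B.det = 1 := by
      rw [hB]
      exact (ι.map_det A).symm.trans (by rw [hdet, map_one])
    rw [e1, e2, e3, one_smul] at h0
    ext i j
    have h00 := congrFun (congrFun h0 i) j
    simp only [Matrix.add_apply, Matrix.sub_apply, Matrix.smul_apply, Matrix.zero_apply] at h00 ⊢
    simp only [CharTwo.sub_eq_add] at h00
    exact h00
  have hA : aeval B (cub 1 b b⁻¹) = 0 := by
    have h3 : t = 1 + (b + b⁻¹) := by rw [← hbb]; linear_combination -h2
    have : cub 1 b b⁻¹ = X ^ 3 + C t * X ^ 2 + C t * X + 1 := by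
      have h4 : C b * C b⁻¹ = (1 : L[X]) := by rw [← map_mul, mul_inv_cancel₀ hb0, map_one]
      rw [cub, h3, sub_eq_add_two, sub_eq_add_two, sub_eq_add_two, C_1]
      simp only [map_add, C_1]
      linear_combination (X + 1) * h4
    rw [this]
    simp only [map_add, map_mul, map_pow, aeval_X, aeval_C, map_one, Algebra.algebraMap_eq_smul_one,
      smul_mul_assoc, one_mul]
    exact hcub
  have back : ∀ n, B ^ n = 1 → A ^ n = 1 := fun n hn => by
    have hinj : Function.Injective (fun M : Matrix (Fin 3) (Fin 3) K => M.map ι) :=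
      fun M N hMN => Matrix.ext fun i j => ι.injective (congrFun (congrFun hMN i) j)
    apply hinj
    show (A ^ n).map ι = (1 : Matrix (Fin 3) (Fin 3) K).map ι
    rw [Matrix.map_one ι ι.map_zero ι.map_one, ← hn, hB]
    exact map_pow (RingHom.mapMatrix ι) A n
  by_cases hb1 : b = 1
  · subst hb1
    rw [inv_one] at hA
    exact Or.inl (back 4 (pow_of_triple (n := 1) hA (one_pow 1)))
  right
  have hne : b ≠ b⁻¹ := fun h => hb1 <| by
    have h3 : b * b = 1 := by nth_rewrite 2 [h]; exact mul_inv_cancel₀ hb0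
    have h4 : (b + 1) ^ 2 = 0 := by linear_combination h3 + (b + 1) * h2
    exact CharTwo.add_eq_zero.1 (pow_eq_zero_iff (by norm_num) |>.1 h4)
  have h1b : (1 : L) ≠ b := Ne.symm hb1
  have h1b' : (1 : L) ≠ b⁻¹ := fun h => hb1 (inv_eq_one.1 h.symm)
  have htq : t ^ q = t := by rw [htd, ← map_pow, hfix]
  have hbq : b ^ q = b ∨ b ^ q = b⁻¹ := by
    have := congrArg (fun z : L => z ^ q) hbb
    simp only [hadd, one_pow, htq, inv_pow] at this
    have h5 : (b ^ q + b) * (b ^ q + b⁻¹) = 0 := by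
      have h6 : b + b⁻¹ = b ^ q + (b ^ q)⁻¹ := hbb.symm.trans this
      have hq0 : b ^ q ≠ 0 := pow_ne_zero _ hb0
      have e1 := mul_inv_cancel₀ hb0
      have e2 := mul_inv_cancel₀ hq0
      linear_combination (b ^ q) * h6 + e2 + e1 + ((b ^ q) ^ 2 + 1) * h2
    rcases mul_eq_zero.1 h5 with h | h
    · exact Or.inl (CharTwo.add_eq_zero.1 h)
    · exact Or.inr (CharTwo.add_eq_zero.1 h)
  rcases hbq with h | h
  · left
    have : b ^ (q - 1) = 1 := mul_right_cancel₀ hb0 (by rw [← pow_succ, Nat.sub_add_cancel (by omega), h, one_mul])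
    exact back _ (pow_of_distinct hA h1b h1b' hne (one_pow _) this (by rw [inv_pow, this, inv_one]))
  · right
    have : b ^ (q + 1) = 1 := by rw [pow_succ, h, inv_mul_cancel₀ hb0]
    exact back _ (pow_of_distinct hA h1b h1b' hne (one_pow _) this (by rw [inv_pow, this, inv_one]))

end Cfsg.Agent.G2Orders
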