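import Cfsg.Agent.Lib.UnionTwoClasses.G2Two
import Cfsg.Agent.Lib.G2Orders.Matrix3
import Mathlib.FieldTheory.Finite.Extension
import Mathlib.LinearAlgebra.StdBasis

/-! Extension of scalars for the automorphism group of Zorn's algebra, in characteristic two. -/

set_option autoImplicit false

namespace Cfsg.Agent.G2Orders

open Matrix Cfsg.Lie G2Oct UnionTwoClasses

variable {F : Type*} [Field F] {K : Type*} [Field K]

theorem zornMul_map (φ : F →+* K) (x y : Fin 8 → F) : zornMul (φ ∘ x) (φ ∘ y) = φ ∘ zornMul x y := by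
  ext i; fin_cases i <;> simp [zornMul, dot3, cross3]

/-- The product as a bilinear map. -/
def mulB (K : Type*) [Field K] : (Fin 8 → K) →ₗ[K] (Fin 8 → K) →ₗ[K] (Fin 8 → K) :=
  LinearMap.mk₂ K zornMul
    (fun x y z => by ext i; fin_cases i <;> simp [zornMul, dot3, cross3] <;> ring)
    (fun c x y => by ext i; fin_cases i <;> simp [zornMul, dot3, cross3] <;> ring)
    (fun x y z => by ext i; fin_cases i <;> simp [zornMul, dot3, cross3] <;> ring)
    (fun c x y => by ext i; fin_cases i <;> simp [zornMul, dot3, cross3] <;> ring)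

/-- Extension of scalars. -/
def gmap (φ : F →+* K) : GL (Fin 8) F →* GL (Fin 8) K := Matrix.GeneralLinearGroup.map φ

theorem app_gmap (φ : F →+* K) (g : GL (Fin 8) F) (x : Fin 8 → F) :
    app (gmap φ g) (φ ∘ x) = φ ∘ app g x :=
  funext fun i => (RingHom.map_mulVec φ (g : Matrix (Fin 8) (Fin 8) F) x i).symm

theorem basis_map (φ : F →+* K) (j : Fin 8) :
    (Pi.single j 1 : Fin 8 → K) = φ ∘ (Pi.single j 1 : Fin 8 → F) := by
  funext i; by_cases h : i = j <;> simp [Pi.single_apply, h]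

theorem gmap_mem (φ : F →+* K) {g : GL (Fin 8) F} (hg : g ∈ Lie.G2 F) : gmap φ g ∈ Lie.G2 K := by
  rw [mem_G2]
  obtain ⟨L, hL⟩ : ∃ L : (Fin 8 → K) →ₗ[K] (Fin 8 → K), ∀ x, L x = app (gmap φ g) x :=
    ⟨(Orth.glEquiv (Fin 8) K (gmap φ g) : (Fin 8 → K) ≃ₗ[K] (Fin 8 → K)).toLinearMap, fun x => rfl⟩
  have key : (mulB K).compr₂ L = (mulB K).compl₁₂ L L := by
    refine LinearMap.ext_basis (Pi.basisFun K (Fin 8)) (Pi.basisFun K (Fin 8)) fun i j => ?_
    simp only [LinearMap.compr₂_apply, LinearMap.compl₁₂_apply, Pi.basisFun_apply, hL, basis_map φ]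
    show app (gmap φ g) (zornMul _ _) = zornMul _ _
    rw [zornMul_map, app_gmap, app_gmap, app_gmap, zornMul_map, mem_G2.1 hg]
  intro x y
  have := LinearMap.congr_fun (LinearMap.congr_fun key x) y
  simp only [LinearMap.compr₂_apply, LinearMap.compl₁₂_apply, hL] at this
  exact this

theorem gmap_injective (φ : F →+* K) : Function.Injective (gmap (F := F) φ) := by
  intro g h e
  refine Units.ext (Matrix.ext fun i j => φ.injective ?_)
  have := congrFun (congrFun (congrArg (fun u : GL (Fin 8) K => (u : Matrix (Fin 8) (Fin 8) K)) e) i) j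
  exact this

theorem mem_of_gmap (φ : F →+* K) {g : GL (Fin 8) F} (hg : gmap φ g ∈ Lie.G2 K) : g ∈ Lie.G2 F := by
  rw [mem_G2] at hg ⊢
  intro x y
  have := hg (φ ∘ x) (φ ∘ y)
  rw [zornMul_map, app_gmap, app_gmap, app_gmap, zornMul_map] at this
  exact funext fun i => φ.injective (congrFun this i)

/-- A matrix fixed by a field map comes from the fixed field. -/
theorem exists_gmap_eq (φ : F →+* K) (σ : K →+* K) (hfix : ∀ y, σ y = y → ∃ x, φ x = y) {h : GL (Fin 8) K}
    (hh : gmap σ h = h) : ∃ g, gmap φ g = h := by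
  have hent : ∀ i j, ∃ x, φ x = (h : Matrix (Fin 8) (Fin 8) K) i j := fun i j =>
    hfix _ (congrFun (congrFun (congrArg (fun u : GL (Fin 8) K => (u : Matrix (Fin 8) (Fin 8) K)) hh) i) j)
  choose M hM using hent
  have hMM : (Matrix.of M).map φ = (h : Matrix (Fin 8) (Fin 8) K) := by ext i j; exact hM i j
  have hdet : IsUnit (Matrix.of M).det := by
    refine isUnit_iff_ne_zero.2 fun h0 => ?_
    have h1 : ((h : Matrix (Fin 8) (Fin 8) K)).det = 0 := by
      rw [← hMM]
      exact (φ.map_det _).symm.trans (by rw [h0, map_zero])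
    exact (Matrix.isUnits_det_units h).ne_zero h1
  refine ⟨Matrix.nonsingInvUnit _ hdet, Units.ext ?_⟩
  exact hMM

theorem gmap_phi (τ : F →+* K) (v : Fin 3 → F) (x : Fin 8 → F) :
    phiEquiv (τ ∘ v) (τ ∘ x) = τ ∘ phiEquiv v x := by
  ext i; fin_cases i <;> simp [phiEquiv, phiFun, mk, dot3, cross3, Matrix.vecHead, Matrix.vecTail]

theorem gmap_slHom (τ : K →+* K) (A : Matrix.SpecialLinearGroup (Fin 3) K) :
    gmap τ (slHom A) = slHom (Matrix.SpecialLinearGroup.map τ A) := by
  refine gl_ext fun x => ?_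
  obtain ⟨L, hL⟩ : ∃ L : (Fin 8 → K) →ₗ[K] (Fin 8 → K), ∀ x, L x = app (gmap τ (slHom A)) x :=
    ⟨(Orth.glEquiv (Fin 8) K (gmap τ (slHom A)) : (Fin 8 → K) ≃ₗ[K] (Fin 8 → K)).toLinearMap, fun x => rfl⟩
  rw [app_slHom, ← hL]
  refine LinearMap.congr_fun ((Pi.basisFun K (Fin 8)).ext fun j => ?_) x
  rw [Pi.basisFun_apply, hL, basis_map τ, app_gmap, app_slHom, ← basis_map τ]
  ext i
  fin_cases i <;> fin_cases j <;>
    simp [slFun, mk, cof, mulVec, dotProduct, Fin.sum_univ_three, Pi.single_apply]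

section Swap

variable [CharP K 2]

/-- The swap of the two idempotents. -/
def wEquiv : (Fin 8 → K) ≃ₗ[K] (Fin 8 → K) where
  toFun x := ![x 7, x 4, x 5, x 6, x 1, x 2, x 3, x 0]
  invFun x := ![x 7, x 4, x 5, x 6, x 1, x 2, x 3, x 0]
  map_add' x y := by ext i; fin_cases i <;> simp
  map_smul' c x := by ext i; fin_cases i <;> simp
  left_inv x := by ext i; fin_cases i <;> simp
  right_inv x := by ext i; fin_cases i <;> simp

theorem wEquiv_mul (x y : Fin 8 → K) : wEquiv (zornMul x y) = zornMul (wEquiv x) (wEquiv y) := by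
  have h2 : (2 : K) = 0 := CharTwo.two_eq_zero
  ext i; fin_cases i <;> simp [wEquiv, zornMul, dot3, cross3, CharTwo.sub_eq_add] <;> ring

/-- The swap as a matrix. -/
def wG : GL (Fin 8) K := (Orth.glEquiv (Fin 8) K).symm wEquiv

theorem wG_mem : (wG : GL (Fin 8) K) ∈ Lie.G2 K := symm_mem wEquiv_mul

theorem app_wG (x : Fin 8 → K) : app wG x = mk (x 7) (zB K x) (zA K x) (x 0) := by
  rw [wG, app_symm]
  ext i; fin_cases i <;> rfl

theorem wG_idem : app wG (idem0 : Fin 8 → K) = idem0 + one8 := by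
  rw [app_wG]
  ext i; fin_cases i <;> simp [idem0, one8, mk, CharTwo.add_self_eq_zero]

theorem wG_sq : (wG : GL (Fin 8) K) * wG = 1 := by
  refine gl_ext fun x => ?_
  rw [app_mul, app_wG, app_wG, app_one]
  ext i; fin_cases i <;> rfl

/-- The cofactor matrix as an element of the group. -/
def cofSL (A : Matrix.SpecialLinearGroup (Fin 3) K) : Matrix.SpecialLinearGroup (Fin 3) K :=
  ⟨cof (A : Matrix (Fin 3) (Fin 3) K), by rw [det_cof, A.2, one_pow]⟩

theorem wG_slHom (A : Matrix.SpecialLinearGroup (Fin 3) K) :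
    wG * slHom A * wG = slHom (cofSL A) := by
  have hcc : cof (cof (A : Matrix (Fin 3) (Fin 3) K)) = (A : Matrix (Fin 3) (Fin 3) K) := by
    rw [cof_cof, A.2, one_smul]
  refine gl_ext fun x => ?_
  rw [app_mul, app_mul, app_wG, app_slHom, app_slHom, app_wG, slFun_mk, mk_seven, mk_zero]
  show mk _ _ _ _ = slFun (cof (A : Matrix (Fin 3) (Fin 3) K)) x
  conv_rhs => rw [← mk_eta x, slFun_mk, hcc]
  rw [zA_mk, zB_mk]

end Swap

/-- The quadratic extension with its Frobenius and an Artin–Schreier root. -/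
theorem exists_quad [Fintype F] [CharP F 2] {a : ℕ} (hF : Fintype.card F = 2 ^ a) :
    ∃ (K : Type) (_ : Field K) (_ : Fintype K) (_ : CharP K 2) (φ : F →+* K) (σ : K →+* K),
      Fintype.card K = (2 ^ a) ^ 2 ∧ (∀ y, σ y = y ^ 2 ^ a) ∧ (∀ y, σ (σ y) = y) ∧
      (∀ x, σ (φ x) = φ x) ∧ (∀ y, σ y = y → ∃ x, φ x = y) ∧
      ∀ c : F, ∃ ρ : K, ρ ^ 2 + ρ = φ c ∧ (σ ρ = ρ ∨ σ ρ = ρ + 1) ∧ (¬ ArtinSchreier c → σ ρ = ρ + 1) := by
  classical
  haveI : Fact (Nat.Prime 2) := ⟨Nat.prime_two⟩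
  let K := FiniteField.Extension F 2 2
  letI : Fintype K := Fintype.ofFinite K
  haveI : CharP K 2 := charP_of_injective_algebraMap (algebraMap F K).injective 2
  have hK : Fintype.card K = (2 ^ a) ^ 2 := by
    rw [← Nat.card_eq_fintype_card, FiniteField.natCard_extension, Nat.card_eq_fintype_card, hF]
  let σ : K →+* K := iterateFrobenius K 2 a
  have hσ : ∀ y, σ y = y ^ 2 ^ a := fun y => iterateFrobenius_def 2 a y
  obtain ⟨φ, hφ⟩ : ∃ φ : F →+* K, φ = algebraMap F K := ⟨_, rfl⟩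
  have hq1 : 1 < 2 ^ a := hF ▸ Fintype.one_lt_card
  have hσσ : ∀ y, σ (σ y) = y := fun y => by
    rw [hσ, hσ, ← pow_mul, ← sq, ← hK, FiniteField.pow_card]
  have hσφ : ∀ x, σ (φ x) = φ x := fun x => by
    rw [hσ, ← map_pow, ← hF, FiniteField.pow_card]
  have hfix : ∀ y, σ y = y → ∃ x, φ x = y := by
    intro y hy
    by_contra hne
    push Not at hne
    have hne0 : (Polynomial.X ^ (2 ^ a) - Polynomial.X : Polynomial K) ≠ 0 :=
      FiniteField.X_pow_card_sub_X_ne_zero K hq1
    have hsub : insert y (Finset.univ.image φ) ⊆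
        (Polynomial.X ^ (2 ^ a) - Polynomial.X : Polynomial K).roots.toFinset := by
      intro z hz
      rw [Multiset.mem_toFinset, Polynomial.mem_roots hne0]
      simp only [Polynomial.IsRoot, Polynomial.eval_sub, Polynomial.eval_pow, Polynomial.eval_X, sub_eq_zero, ← hσ]
      rcases Finset.mem_insert.1 hz with rfl | hz
      · exact hy
      · obtain ⟨x, -, rfl⟩ := Finset.mem_image.1 hz
        exact hσφ x
    have h1 := (Finset.card_le_card hsub).trans ((Multiset.toFinset_card_le _).trans (Polynomial.card_roots' _))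
    rw [Finset.card_insert_of_notMem (fun h => by
      obtain ⟨x, -, hx⟩ := Finset.mem_image.1 h; exact hne x hx),
      Finset.card_image_of_injective _ φ.injective, Finset.card_univ, hF,
      FiniteField.X_pow_card_sub_X_natDegree_eq K hq1] at h1
    omega
  obtain ⟨z, hz⟩ : ∃ z : K, σ z ≠ z := by
    by_contra h
    push Not at h
    have : Function.Surjective φ := fun y => hfix y (h y)
    have := Fintype.card_le_of_surjective φ this
    rw [hK, hF, sq] at this
    nlinarith
  obtain ⟨w, hw⟩ : ∃ w : K, w = z / (z + σ z) := ⟨_, rfl⟩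
  have hzz : z + σ z ≠ 0 := fun h => hz (CharTwo.add_eq_zero.1 h).symm
  have hσw : σ w = w + 1 := by
    rw [hw, map_div₀, map_add, hσσ, add_comm (σ z) z, div_add_one hzz]
    congr 1
    linear_combination -z * (CharTwo.two_eq_zero (R := K))
  obtain ⟨d, hd⟩ := hfix (w ^ 2 + w) (by
    rw [map_add, map_pow, hσw]; linear_combination (w + 1) * (CharTwo.two_eq_zero (R := K)))
  have hdn : ¬ ArtinSchreier d := by
    rintro ⟨s, hs⟩
    have h : (φ s + w) * (φ s + w + 1) = 0 := by
      have : φ s ^ 2 + φ s = w ^ 2 + w := by rw [← hd, ← hs, map_add, map_pow]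
      linear_combination this + (w ^ 2 + w + φ s * w) * (CharTwo.two_eq_zero (R := K))
    rcases mul_eq_zero.1 h with h | h
    · have h2 : w = φ s := (CharTwo.add_eq_zero.1 h).symm
      rw [h2, hσφ] at hσw
      simp at hσw
    · have h2 : w = φ s + 1 := by linear_combination h - (φ s + 1) * (CharTwo.two_eq_zero (R := K))
      rw [h2, map_add, map_one, hσφ] at hσw
      simp at hσw
  refine ⟨K, inferInstance, inferInstance, inferInstance, φ, σ, hK, hσ, hσσ, hσφ, hfix, fun c => ?_⟩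
  by_cases hc : ArtinSchreier c
  · obtain ⟨s, rfl⟩ := hc
    exact ⟨φ s, by simp, Or.inl (hσφ s), fun h => absurd ⟨s, rfl⟩ h⟩
  · obtain ⟨s, hs⟩ := artinSchreier_add hc hdn
    refine ⟨w + φ s, ?_, Or.inr (by rw [map_add, hσw, hσφ]; ring), fun _ => by rw [map_add, hσw, hσφ]; ring⟩
    have : φ s ^ 2 + φ s = φ c + (w ^ 2 + w) := by rw [← hd, ← map_pow, ← map_add, hs, map_add]
    rw [CharTwo.add_sq]
    linear_combination this + (w ^ 2 + w) * (CharTwo.two_eq_zero (R := K))

end Cfsg.Agent.G2Orders
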