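import Cfsg.Agent.Lib.G2Orders.Descent
import Cfsg.Agent.Lib.G2Iso.Hom
import Cfsg.Agent.Lib.G2Octonion.Sylow
import Cfsg.Agent.Lib.G2Torus.Singer
import Cfsg.Agent.Lib.Spectra.UnitaryTori

/-! Elements of the listed orders in `G₂(q)`, `q` even. -/

set_option autoImplicit false

namespace Cfsg.Agent.G2Orders

open Matrix Cfsg.Lie G2Oct

variable {F : Type*} [Field F]

theorem orderOf_of_iff {G : Type*} [Monoid G] {g : G} {n : ℕ} (h : ∀ k, g ^ k = 1 ↔ n ∣ k) : orderOf g = n :=
  Nat.dvd_antisymm (orderOf_dvd_of_pow_eq_one ((h n).2 dvd_rfl)) ((h _).1 (pow_orderOf_eq_one g))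

theorem pair_pow (a b : GL (Fin 2) F) (k : ℕ) : pairHom (a, b) ^ k = pairHom (a ^ k, b ^ k) := by
  rw [← map_pow]; rfl

theorem exists_gl_two [Fintype F] (p : ℕ) [Fact p.Prime] [CharP F p] :
    ∃ C : GL (Fin 2) F, orderOf C = Fintype.card F ^ 2 - 1 := by
  classical
  let E := FiniteField.Extension F p 2
  letI : Fintype E := Fintype.ofFinite E
  have hcE : Fintype.card E = Fintype.card F ^ 2 := by
    rw [← Nat.card_eq_fintype_card, FiniteField.natCard_extension, Nat.card_eq_fintype_card]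
  obtain ⟨g, hg⟩ := IsCyclic.exists_generator (α := Eˣ)
  let b : Module.Basis (Fin 2) F E := Module.finBasisOfFinrankEq F E (FiniteField.finrank_extension F p 2)
  refine ⟨Units.map (Algebra.leftMulMatrix b).toRingHom.toMonoidHom g, ?_⟩
  rw [orderOf_injective _ (Units.map_injective (Algebra.leftMulMatrix_injective b)),
    orderOf_eq_card_of_forall_mem_zpowers hg, Nat.card_units, Nat.card_eq_fintype_card, hcE]

theorem exists_q_sq_sub_one [Fintype F] (p : ℕ) [Fact p.Prime] [CharP F p] :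
    ∃ g ∈ Lie.G2 F, orderOf g = Fintype.card F ^ 2 - 1 := by
  obtain ⟨C, hC⟩ := exists_gl_two (F := F) p
  obtain ⟨δ, hδ⟩ : ∃ δ, δ = Matrix.GeneralLinearGroup.det C := ⟨_, rfl⟩
  have hdet : Matrix.GeneralLinearGroup.det C = Matrix.GeneralLinearGroup.det (diag2 F (δ, 1)) := by
    refine Units.ext ?_
    show _ = (diag2 F (δ, 1) : Matrix (Fin 2) (Fin 2) F).det
    rw [coe_diag2, Matrix.det_fin_two_of, hδ]
    simp
  refine ⟨pairHom (C, diag2 F (δ, 1)), pair_mem hdet, orderOf_of_iff fun k => ?_⟩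
  rw [pair_pow, ← hC, orderOf_dvd_iff_pow_eq_one]
  constructor
  · intro h
    obtain ⟨z, hz, hb⟩ := pair_ker h
    rw [← map_pow] at hb
    have h1 := congrArg (fun u : GL (Fin 2) F => (u : Matrix (Fin 2) (Fin 2) F) 1 1) hb
    simp only [coe_diag2, hz, Prod.pow_snd, Prod.pow_fst, one_pow] at h1
    simp at h1
    refine Units.ext ?_
    rw [hz, ← h1, one_smul, Units.val_one]
  · intro h
    have : δ ^ k = 1 := by rw [hδ, ← map_pow, h, map_one]
    rw [h, ← map_pow (diag2 F), show ((δ, (1 : Fˣ)) ^ k : Fˣ × Fˣ) = 1 from Prod.ext this (one_pow k), map_one,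
      show ((1 : GL (Fin 2) F), (1 : GL (Fin 2) F)) = 1 from rfl, map_one]

theorem upT_pow (k : ℕ) : ((upT (1 : F)) ^ k : GL (Fin 2) F).1 = !![1, (k : F); 0, 1] := by
  induction k with
  | zero => simp [Matrix.one_fin_two]
  | succ k ih =>
    rw [pow_succ, Units.val_mul, ih]
    ext i j; fin_cases i <;> fin_cases j <;> simp [upT, Matrix.mul_apply, Fin.sum_univ_two] <;> ring

theorem exists_double [CharP F 2] {S : GL (Fin 2) F} (hdet : Matrix.GeneralLinearGroup.det S = 1)
    (hodd : Odd (orderOf S)) : ∃ g ∈ Lie.G2 F, orderOf g = 2 * orderOf S := by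
  have hd : Matrix.GeneralLinearGroup.det (upT (1 : F)) = Matrix.GeneralLinearGroup.det S := by
    rw [hdet]; refine Units.ext ?_
    show (upT (1 : F) : Matrix (Fin 2) (Fin 2) F).det = 1
    simp [upT, Matrix.det_fin_two]
  refine ⟨pairHom (upT 1, S), pair_mem hd, orderOf_of_iff fun k => ?_⟩
  rw [pair_pow]
  constructor
  · intro h
    obtain ⟨z, hz, hb⟩ := pair_ker h
    rw [upT_pow] at hz
    have e01 := congrFun (congrFun hz 0) 1
    have e00 := congrFun (congrFun hz 0) 0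
    simp at e01 e00
    have h2 : 2 ∣ k := (CharP.cast_eq_zero_iff F 2 k).1 e01
    refine hodd.coprime_two_left.mul_dvd_of_dvd_of_dvd h2 (orderOf_dvd_of_pow_eq_one (Units.ext ?_))
    rw [hb, upT_pow, e01, Units.val_one, Matrix.one_fin_two]
  · intro h
    have h2 : ((k : ℕ) : F) = 0 := (CharP.cast_eq_zero_iff F 2 k).2 ((dvd_mul_right 2 _).trans h)
    have hu : (upT (1 : F)) ^ k = 1 := Units.ext (by rw [upT_pow, h2, Units.val_one, Matrix.one_fin_two])
    rw [hu, orderOf_dvd_iff_pow_eq_one.1 ((dvd_mul_left _ 2).trans h),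
      show ((1 : GL (Fin 2) F), (1 : GL (Fin 2) F)) = 1 from rfl, map_one]

theorem exists_two_mul [Fintype F] [CharP F 2] {a : ℕ} (ha : 1 ≤ a) (hF : Fintype.card F = 2 ^ a) :
    (∃ g ∈ Lie.G2 F, orderOf g = 2 * (2 ^ a + 1)) ∧ ∃ g ∈ Lie.G2 F, orderOf g = 2 * (2 ^ a - 1) := by
  classical
  haveI : Fact (Nat.Prime 2) := ⟨Nat.prime_two⟩
  have heven : Even (2 ^ a) := Nat.even_pow.2 ⟨even_two, by omega⟩
  have h1 : 1 ≤ 2 ^ a := Nat.one_le_two_pow
  constructor
  · obtain ⟨C, hC⟩ := exists_gl_two (F := F) 2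
    rw [hF] at hC
    have hdet : Matrix.GeneralLinearGroup.det (C ^ (2 ^ a - 1)) = 1 := by
      rw [map_pow, ← hF, ← Fintype.card_units, pow_card_eq_one]
    have hord : orderOf (C ^ (2 ^ a - 1)) = 2 ^ a + 1 := by
      have h3 : (2 ^ a + 1) * (2 ^ a - 1) = (2 ^ a) ^ 2 - 1 := by rw [← Nat.sq_sub_sq, one_pow]
      have h4 : 2 ^ a - 1 ≠ 0 := by have := Nat.le_self_pow (show a ≠ 0 by omega) 2; omega
      rw [orderOf_pow_of_dvd h4 (by rw [hC, ← h3]; exact dvd_mul_left _ _), hC, ← h3,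
        Nat.mul_div_cancel _ (Nat.pos_of_ne_zero h4)]
    obtain ⟨g, hg, hgo⟩ := exists_double hdet (by rw [hord]; exact heven.add_one)
    exact ⟨g, hg, hgo.trans (by rw [hord])⟩
  · obtain ⟨μ, hμ⟩ := IsCyclic.exists_ofOrder_eq_natCard (α := Fˣ)
    rw [Nat.card_units, Nat.card_eq_fintype_card, hF] at hμ
    have hdet : Matrix.GeneralLinearGroup.det (diag2 F (μ, μ⁻¹)) = 1 := by
      refine Units.ext ?_
      show (diag2 F (μ, μ⁻¹) : Matrix (Fin 2) (Fin 2) F).det = 1
      rw [coe_diag2, Matrix.det_fin_two_of]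
      simp
    have hinj : Function.Injective (diag2 F) := by
      intro u v huv
      have h := congrArg (fun w : GL (Fin 2) F => (w : Matrix (Fin 2) (Fin 2) F)) huv
      simp only [coe_diag2] at h
      exact Prod.ext (Units.ext (by simpa using congrFun (congrFun h 0) 0))
        (Units.ext (by simpa using congrFun (congrFun h 1) 1))
    have hord : orderOf (diag2 F (μ, μ⁻¹)) = 2 ^ a - 1 := by
      rw [orderOf_injective _ hinj, Prod.orderOf, orderOf_inv, Nat.lcm_self, hμ]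
    obtain ⟨g, hg, hgo⟩ := exists_double hdet (by rw [hord]; exact Nat.Even.sub_odd h1 heven odd_one)
    exact ⟨g, hg, hgo.trans (by rw [hord])⟩

theorem exists_singer_plus [Fintype F] : ∃ g ∈ Lie.G2 F, orderOf g = Fintype.card F ^ 2 + Fintype.card F + 1 := by
  obtain ⟨_, _, _, A, _, _, hA, -⟩ := G2Torus.exists_singer (F := F) _ rfl
  exact ⟨slHom A, slHom_mem A, by rw [orderOf_injective _ slHom_injective, hA]⟩

section Small

open G2Iso

/-- The coefficient sum. -/
def coef (p : P2) : ℤ := (p.map Prod.snd).sum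

theorem ev_one_one : ∀ p : P2, ev (1 : F) 1 p = (coef p : F)
  | [] => by simp [ev, coef]
  | m :: l => by
    have := ev_one_one l
    simp only [ev, coef, List.map_cons, List.sum_cons, Int.cast_add] at this ⊢
    rw [this]; simp [evM]

/-- The word of roots, repeated. -/
def rep' (w : List ℕ) (k : ℕ) : List (ℕ × ((ℕ × ℕ) × ℤ)) :=
  ((List.replicate k w).flatten).map fun r => (r, ((0, 0), 1))

/-- The parity of the entries. -/
def entry (w : List ℕ) (k i j : ℕ) : ℤ := coef ((pWord (rep' w k) (pBas j)).getD i [])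

theorem prod_rep (w : List ℕ) : ∀ k : ℕ,
    (((rep' w k).map fun p => (p.1, evM (1 : F) 1 p.2)).map fun p => gen p.1 p.2).prod =
      (w.map fun r => gen r (1 : F)).prod ^ k
  | 0 => rfl
  | k + 1 => by
    rw [pow_succ', ← prod_rep w k, rep', List.replicate_succ, List.flatten_cons, List.map_append, List.map_append,
      List.map_append, List.prod_append]
    refine congrArg (· * _) (congrArg List.prod ?_)
    rw [List.map_map, List.map_map]
    exact List.map_congr_left fun r _ => by simp [evM]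

theorem pow_entry (w : List ℕ) (hw : ∀ r ∈ w, r < 12) (k : ℕ) (i j : Fin 8) :
    app ((w.map fun r => gen r (1 : F)).prod ^ k) (Pi.single j 1) i = (entry w k i j : F) := by
  have hw' : ∀ p ∈ (rep' w k).map fun p => (p.1, evM (1 : F) 1 p.2), p.1 < 12 := by
    intro p hp
    obtain ⟨q, hq, rfl⟩ := List.mem_map.1 hp
    obtain ⟨r, hr, rfl⟩ := List.mem_map.1 hq
    obtain ⟨l, hl, hrl⟩ := List.mem_flatten.1 hr
    exact hw r (List.eq_of_mem_replicate hl ▸ hrl)
  have h := app_word _ hw' (Pi.single j 1) i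
  rw [prod_rep, ext8, dif_pos i.2, ext8_single] at h
  rw [h, entry, ← ev_one_one, ev_pWord, funext (ev_pBas (1 : F) 1 j.2)]

theorem small_data : ∀ j i : Fin 8,
    2 ∣ entry [0, 8] 8 i j - (if i = j then 1 else 0) ∧
    2 ∣ entry [0, 2, 9] 12 i j - (if i = j then 1 else 0) := by decide +kernel

theorem small_data' : (∃ j i : Fin 8, ¬ 2 ∣ entry [0, 8] 4 i j - (if i = j then 1 else 0)) ∧
    (∃ j i : Fin 8, ¬ 2 ∣ entry [0, 2, 9] 4 i j - (if i = j then 1 else 0)) ∧
    (∃ j i : Fin 8, ¬ 2 ∣ entry [0, 2, 9] 6 i j - (if i = j then 1 else 0)) := by decide +kernel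

theorem pow_one_iff [CharP F 2] (w : List ℕ) (hw : ∀ r ∈ w, r < 12) (k : ℕ) :
    (w.map fun r => gen r (1 : F)).prod ^ k = 1 ↔
      ∀ j i : Fin 8, 2 ∣ entry w k i j - (if i = j then 1 else 0) := by
  have hc : ∀ j i : Fin 8, (((entry w k i j - (if i = j then 1 else 0) : ℤ)) : F) =
      app ((w.map fun r => gen r (1 : F)).prod ^ k) (Pi.single j 1) i - app 1 (Pi.single j 1) i := by
    intro j i
    rw [pow_entry w hw, app_one, Int.cast_sub, Pi.single_apply]
    split <;> simp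
  constructor
  · intro h j i
    have := hc j i
    rw [h, sub_self] at this
    exact_mod_cast (CharP.intCast_eq_zero_iff F 2 _).1 this
  · intro h
    refine gl_ext_single fun j i => sub_eq_zero.1 ?_
    rw [← hc, (CharP.intCast_eq_zero_iff F 2 _).2 (by exact_mod_cast h j i)]

theorem exists_eight_twelve [CharP F 2] :
    (∃ g ∈ Lie.G2 F, orderOf g = 8) ∧ ∃ g ∈ Lie.G2 F, orderOf g = 12 := by
  have hmem : ∀ w : List ℕ, (w.map fun r => gen r (1 : F)).prod ∈ Lie.G2 F := fun w =>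
    list_prod_mem fun x hx => by
      obtain ⟨r, -, rfl⟩ := List.mem_map.1 hx
      exact gen_mem r 1
  obtain ⟨n8, n4, n6⟩ := small_data'
  constructor
  · refine ⟨_, hmem [0, 8], ?_⟩
    haveI : Fact (Nat.Prime 2) := ⟨Nat.prime_two⟩
    refine orderOf_eq_prime_pow (p := 2) (n := 2) ?_ ?_
    · rw [pow_one_iff _ (by decide)]
      intro h
      obtain ⟨j, i, hji⟩ := n8
      exact hji (h j i)
    · rw [pow_one_iff _ (by decide)]
      exact fun j i => (small_data j i).1
  · refine ⟨_, hmem [0, 2, 9], (Nat.le_antisymm ?_ ?_)⟩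
    · refine orderOf_le_of_pow_eq_one (by norm_num) ?_
      rw [pow_one_iff _ (by decide)]
      exact fun j i => (small_data j i).2
    · have h12 : orderOf ((([0, 2, 9] : List ℕ).map fun r => gen r (1 : F)).prod) ∣ 12 :=
        orderOf_dvd_of_pow_eq_one (by rw [pow_one_iff _ (by decide)]; exact fun j i => (small_data j i).2)
      have hne : ∀ d, d ∣ 4 ∨ d ∣ 6 → orderOf ((([0, 2, 9] : List ℕ).map fun r => gen r (1 : F)).prod) ≠ d := by
        intro d hd h
        rcases hd with hd | hd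
        · have := orderOf_dvd_iff_pow_eq_one.1 (h ▸ hd)
          rw [pow_one_iff _ (by decide)] at this
          obtain ⟨j, i, hji⟩ := n4
          exact hji (this j i)
        · have := orderOf_dvd_iff_pow_eq_one.1 (h ▸ hd)
          rw [pow_one_iff _ (by decide)] at this
          obtain ⟨j, i, hji⟩ := n6
          exact hji (this j i)
      by_contra hlt
      have hdiv : ∀ d < 12, d ∣ 12 → d ∣ 4 ∨ d ∣ 6 := by decide
      exact hne _ (hdiv _ (not_le.1 hlt) h12) rfl

end Small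

section Minus

variable {K : Type*} [Field K]

theorem gmap_pairHom (τ : K →+* K) (a b : GL (Fin 2) K) :
    gmap τ (pairHom (a, b)) = pairHom (Matrix.GeneralLinearGroup.map τ a, Matrix.GeneralLinearGroup.map τ b) := by
  refine gl_ext fun x => ?_
  obtain ⟨L, hL⟩ : ∃ L : (Fin 8 → K) →ₗ[K] (Fin 8 → K), ∀ x, L x = app (gmap τ (pairHom (a, b))) x :=
    ⟨(Orth.glEquiv (Fin 8) K (gmap τ (pairHom (a, b))) : (Fin 8 → K) ≃ₗ[K] (Fin 8 → K)).toLinearMap, fun x => rfl⟩
  rw [app_pairHom, ← hL]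
  refine LinearMap.congr_fun ((Pi.basisFun K (Fin 8)).ext fun j => ?_) x
  rw [Pi.basisFun_apply, hL, basis_map τ, app_gmap, app_pairHom, ← basis_map τ, pairFun_apply, pairFun_apply]
  ext i
  fin_cases i <;> simp [join, xOf, yOf, Matrix.mul_apply, Fin.sum_univ_two, Matrix.GeneralLinearGroup.map,
    Pi.single_apply, apply_ite τ, ← Matrix.coe_units_inv]

theorem pair_swap [CharP K 2] : pairHom (swapW K, swapW K) = wG := by
  refine gl_ext fun x => ?_
  rw [app_pairHom, pairFun_apply, app_wG]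
  have hs : ((swapW K : GL (Fin 2) K) : Matrix (Fin 2) (Fin 2) K) = !![0, 1; 1, 0] := by
    ext i j; fin_cases i <;> fin_cases j <;> simp [swapW, CharTwo.neg_eq]
  have hsi : (((swapW K)⁻¹ : GL (Fin 2) K) : Matrix (Fin 2) (Fin 2) K) = !![0, 1; 1, 0] := by
    ext i j; fin_cases i <;> fin_cases j <;> simp [swapW, CharTwo.neg_eq]
  rw [hs, hsi]
  ext i; fin_cases i <;> simp [join, xOf, yOf, mk, Matrix.mul_apply, Fin.sum_univ_two, CharTwo.neg_eq]

theorem right_inv_unique {M X Y : Matrix (Fin 3) (Fin 3) K} (hX : M * X = 1) (hY : M * Y = 1) : X = Y := by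
  calc X = (X * M) * X := by rw [Matrix.mul_assoc, hX, Matrix.mul_one]
    _ = X * (M * Y) := by rw [Matrix.mul_assoc, hX, hY]
    _ = Y := by rw [← Matrix.mul_assoc, mul_eq_one_comm.1 hX, Matrix.one_mul]

theorem exists_unitary_three [Fintype K] [CharP K 2] {a : ℕ} (ha : 1 ≤ a) (hK : Fintype.card K = (2 ^ a) ^ 2)
    (σ : K →+* K) (hσ : ∀ y, σ y = y ^ 2 ^ a) (hσσ : ∀ y, σ (σ y) = y) {z : K} (hz : σ z ≠ z) :
    ∃ A : Matrix.SpecialLinearGroup (Fin 3) K, orderOf A = (2 ^ a) ^ 2 - 2 ^ a + 1 ∧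
      cof (A.1.map σ) = A.1 := by
  classical
  haveI : Fact (Nat.Prime 2) := ⟨Nat.prime_two⟩
  obtain ⟨q, hq⟩ : ∃ q, q = 2 ^ a := ⟨_, rfl⟩
  rw [← hq] at hK hσ ⊢
  have hq1 : 2 ≤ q := hq ▸ Nat.le_self_pow (by omega) 2
  let σe : K ≃+* K := RingEquiv.ofRingHom σ σ (RingHom.ext hσσ) (RingHom.ext hσσ)
  have hσe : orderOf σe = 2 := by
    refine orderOf_eq_prime (RingEquiv.ext fun y => ?_) fun h => hz (RingEquiv.congr_fun h z)
    rw [sq]; exact hσσ y
  let L := FiniteField.Extension K 2 3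
  letI : Fintype L := Fintype.ofFinite L
  haveI : CharP L 2 := charP_of_injective_algebraMap (algebraMap K L).injective 2
  have hL : Fintype.card L = q ^ 6 := by
    rw [← Nat.card_eq_fintype_card, FiniteField.natCard_extension, Nat.card_eq_fintype_card, hK, ← pow_mul]
  let τ : L →+* L := iterateFrobenius L 2 (a * 3)
  have hτ : ∀ y, τ y = y ^ q ^ 3 := fun y => by
    rw [hq, ← pow_mul]; exact iterateFrobenius_def 2 (a * 3) y
  have hττ : ∀ y, τ (τ y) = y := fun y => by
    rw [hτ, hτ, ← pow_mul, ← pow_add, ← hL, FiniteField.pow_card]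
  have hτl : ∀ c, τ (algebraMap K L c) = algebraMap K L (σe c) := fun c => by
    rw [hτ, ← map_pow, show σe c = c ^ q from hσ c]
    congr 1
    rw [pow_succ, pow_mul, show (c : K) ^ q ^ 2 = c by rw [← hK, FiniteField.pow_card]]
  have htr : ∀ y, Algebra.trace K L (τ y) = σe (Algebra.trace K L y) := fun y =>
    UnitarySpectra.trace_map σe τ hτl y
  obtain ⟨b, hb⟩ := UnitarySpectra.exists_model (n := 3) σe hσe (A := L) (FiniteField.finrank_extension K 2 3)
    τ hττ hτl (Algebra.trace K L) htr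
    (fun y hy => (traceForm_nondegenerate K L).1 y fun w => by simpa using hy w)
  obtain ⟨N, hN⟩ : ∃ N, N = q ^ 2 - q + 1 := ⟨_, rfl⟩
  have hqq : q ≤ q ^ 2 := Nat.le_self_pow (by norm_num) q
  have hN1 : (q + 1) * N = q ^ 3 + 1 := by
    obtain ⟨d, hd⟩ := Nat.exists_eq_add_of_le hqq
    rw [hN, hd, Nat.add_sub_cancel_left]
    nlinarith [hd]
  have hN2 : N * (q ^ 2 + q + 1) = q ^ 4 + q ^ 2 + 1 := by
    obtain ⟨d, hd⟩ := Nat.exists_eq_add_of_le hqq
    rw [hN, hd, Nat.add_sub_cancel_left]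
    nlinarith [hd]
  obtain ⟨ζ, hζ⟩ := SympSpectra.exists_field_unit (K := L) (N := N) (by
    refine ⟨(q + 1) * (q ^ 3 - 1), ?_⟩
    rw [Nat.card_eq_fintype_card, hL, ← mul_assoc, mul_comm N, hN1, ← Nat.sq_sub_sq, one_pow, ← pow_mul])
  have hpow : ∀ j, N ∣ j → (ζ : L) ^ j = 1 := fun j hj => by
    rw [← Units.val_pow_eq_pow_val, orderOf_dvd_iff_pow_eq_one.1 (hζ ▸ hj), Units.val_one]
  have hunit : τ (ζ : L) * ζ = 1 := by
    rw [hτ, ← pow_succ]; exact hpow _ ⟨q + 1, by rw [← hN1]; ring⟩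
  obtain ⟨A, hA⟩ : ∃ A : Matrix (Fin 3) (Fin 3) K, A = Algebra.leftMulMatrix b (ζ : L) := ⟨_, rfl⟩
  have hdet : A.det = 1 := by
    rw [hA, ← Algebra.norm_eq_matrix_det]
    apply (algebraMap K L).injective
    rw [FiniteField.algebraMap_norm_eq_pow_sum, map_one, Nat.card_eq_fintype_card, hK,
      FiniteField.finrank_extension]
    refine hpow _ ⟨q ^ 2 + q + 1, ?_⟩
    rw [hN2]
    simp [Finset.sum_range_succ]; ring
  have hua : (A.map σ)ᵀ * A = 1 := by
    have : UnitarySpectra.adj σe A * A = 1 := by rw [hA, hb, ← map_mul, hunit, map_one]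
    exact this
  obtain ⟨S, hS⟩ : ∃ S : Matrix.SpecialLinearGroup (Fin 3) K, S.1 = A := ⟨⟨A, hdet⟩, rfl⟩
  refine ⟨S, ?_, ?_⟩
  · rw [← hN, ← hζ]
    refine orderOf_eq_orderOf_iff.2 fun k => ?_
    have h1 : (S ^ k).1 = Algebra.leftMulMatrix b (((ζ ^ k : Lˣ)) : L) := by
      rw [Units.val_pow_eq_pow_val, map_pow, ← hA, ← hS]
      exact Matrix.SpecialLinearGroup.coe_pow S k
    constructor
    · intro h
      refine Units.ext (Algebra.leftMulMatrix_injective b ?_)
      rw [← h1, h, Units.val_one, map_one]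
      rfl
    · intro h
      refine Subtype.ext (h1.trans ?_)
      rw [h, Units.val_one, map_one]
      rfl
  · rw [hS]
    have h1 : (A.map σ)ᵀ * cof (A.map σ) = 1 := by
      have h2 : (A.map σ).det = 1 := (σ.map_det A).symm.trans (by rw [hdet, map_one])
      rw [← one_smul K (1 : Matrix (Fin 3) (Fin 3) K), ← h2]
      ext i j
      fin_cases i <;> fin_cases j <;> simp [cof, Matrix.mul_apply, Fin.sum_univ_three, Matrix.det_fin_three] <;> ring
    exact (right_inv_unique hua h1).symm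

end Minus

end Cfsg.Agent.G2Orders
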