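import Cfsg.Agent.Lib.G2Orders.Upper
import Cfsg.Agent.Lib.G2Orders.Exist
import Cfsg.Agent.Lib.G2Iso.Iso

/-! The element orders of `G₂(q)`, `q` even. -/

set_option autoImplicit false

namespace Cfsg.Agent.G2Orders

open Matrix Cfsg.Lie G2Oct UnionTwoClasses

variable {F : Type*} [Field F]

theorem exists_singer_minus [Fintype F] [CharP F 2] {a : ℕ} (ha : 1 ≤ a) (hF : Fintype.card F = 2 ^ a) :
    ∃ g ∈ Lie.G2 F, orderOf g = (2 ^ a) ^ 2 - 2 ^ a + 1 := by
  obtain ⟨K, _, _, _, φ, σ, hK, hσ, hσσ, hσφ, hfix, hroot⟩ := exists_quad hF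
  obtain ⟨d, hd⟩ := exists_not_artinSchreier (F := F)
  obtain ⟨ρ, -, -, hρ⟩ := hroot d
  have hρσ := hρ hd
  have h2 : (2 : K) = 0 := CharTwo.two_eq_zero
  obtain ⟨P, hP⟩ : ∃ P : GL (Fin 2) K, P = (⟨!![ρ, 1; ρ + 1, 1], !![1, 1; ρ + 1, ρ], by
      ext i j; fin_cases i <;> fin_cases j <;> simp [Matrix.mul_apply, Fin.sum_univ_two] <;>
        (ring_nf; simp [h2]), by
      ext i j; fin_cases i <;> fin_cases j <;> simp [Matrix.mul_apply, Fin.sum_univ_two] <;>
        (ring_nf; simp [h2])⟩ : GL (Fin 2) K) := ⟨_, rfl⟩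
  obtain ⟨r, hr⟩ : ∃ r, r = pairHom (P, P) := ⟨_, rfl⟩
  have hrm : r ∈ Lie.G2 K := hr ▸ pair_mem rfl
  have hrσ : gmap σ r = wG * r := by
    have hσP : Matrix.GeneralLinearGroup.map σ P = swapW K * P := by
      refine Units.ext (Matrix.ext fun i j => ?_)
      rw [hP]
      fin_cases i <;> fin_cases j <;>
        simp [Matrix.GeneralLinearGroup.map, swapW, Matrix.mul_apply, Fin.sum_univ_two, hρσ, map_add,
          CharTwo.neg_eq, CharTwo.sub_eq_add] <;>
        (ring_nf; simp [h2])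
    rw [hr, gmap_pairHom, hσP, ← pair_swap, ← map_mul]
    rfl
  obtain ⟨A, hA, hcof⟩ := exists_unitary_three ha hK σ hσ hσσ (z := ρ) (by
    rw [hρσ]; intro h; simp at h)
  obtain ⟨h, hh⟩ : ∃ h, h = r⁻¹ * slHom A * r := ⟨_, rfl⟩
  have hw : (wG : GL (Fin 8) K)⁻¹ = wG := inv_eq_of_mul_eq_one_right wG_sq
  have hfix' : gmap σ h = h := by
    have hc : cofSL (Matrix.SpecialLinearGroup.map σ A) = A := Subtype.ext hcof
    rw [hh, map_mul, map_mul, map_inv, gmap_slHom, hrσ, _root_.mul_inv_rev, hw]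
    conv_rhs => rw [← hc, ← wG_slHom]
    group
  obtain ⟨g, hg⟩ := exists_gmap_eq φ σ hfix hfix'
  refine ⟨g, mem_of_gmap φ (hg ▸ hh ▸ mul_mem (mul_mem (inv_mem hrm) (slHom_mem A)) hrm), ?_⟩
  rw [← orderOf_injective (gmap φ) (gmap_injective φ) g, hg, hh, ← hA,
    ← orderOf_injective slHom slHom_injective A]
  exact SemiconjBy.orderOf_eq r (show r * (r⁻¹ * slHom A * r) = slHom A * r by group)

/-- The element orders of the Chevalley group. -/
theorem main [Fintype F] (a : ℕ) (ha : 2 ≤ a) (hF : Fintype.card F = 2 ^ a) :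
    (∀ x : ↥(chevG2.group F), ∃ n ∈ expList (2 ^ a), orderOf x ∣ n) ∧
      ∀ n ∈ expList (2 ^ a), ∃ x : ↥(chevG2.group F), orderOf x = n := by
  haveI : Fact (Nat.Prime 2) := ⟨Nat.prime_two⟩
  haveI : CharP F 2 := by
    obtain ⟨p, hp⟩ := CharP.exists F
    haveI := hp
    obtain ⟨⟨n, hn⟩, hprime, hc⟩ := FiniteField.card F p
    have hdvd : p ∣ 2 ^ a := hF ▸ hc ▸ dvd_pow_self p (Nat.pos_iff_ne_zero.1 hn)
    rwa [← (Nat.prime_dvd_prime_iff_eq hprime Nat.prime_two).1 (hprime.dvd_of_dvd_pow hdvd)]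
  obtain ⟨e⟩ := G2Iso.exists_iso (F := F) (by
    rw [hF]; have := Nat.pow_le_pow_right (show 1 ≤ 2 by norm_num) ha; omega)
  constructor
  · intro x
    obtain ⟨n, hn, h1⟩ := exists_exp_G2 (by omega : 1 ≤ a) hF (e x).2
    refine ⟨n, hn, ?_⟩
    rw [← MulEquiv.orderOf_eq e x, ← Subgroup.orderOf_coe]
    exact orderOf_dvd_of_pow_eq_one h1
  · intro n hn
    suffices h : ∃ g ∈ Lie.G2 F, orderOf g = n by
      obtain ⟨g, hg, ho⟩ := h
      exact ⟨e.symm ⟨g, hg⟩, by rw [MulEquiv.orderOf_eq, ← Subgroup.orderOf_coe]; exact ho⟩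
    simp only [expList, List.mem_cons, List.not_mem_nil, or_false] at hn
    rcases hn with rfl | rfl | rfl | rfl | rfl | rfl | rfl
    · exact exists_eight_twelve.1
    · exact exists_eight_twelve.2
    · exact (exists_two_mul (by omega) hF).1
    · exact (exists_two_mul (by omega) hF).2
    · exact hF ▸ exists_q_sq_sub_one 2
    · exact hF ▸ exists_singer_plus
    · exact exists_singer_minus (by omega) hF

end Cfsg.Agent.G2Orders
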