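import Mathlib.LinearAlgebra.Matrix.NonsingularInverse
import Mathlib.LinearAlgebra.Matrix.Charpoly.Coeff
import Mathlib.FieldTheory.IsAlgClosed.AlgebraicClosure
import Mathlib.FieldTheory.Finite.Basic
import Mathlib.Algebra.CharP.Two

/-!
Orders of the `3 × 3` matrices of determinant one in characteristic two whose characteristic
polynomial is fixed, or reversed, by the power map `x ↦ x ^ q`.
-/

set_option autoImplicit false

namespace Cfsg.Agent.G2Orders

open Polynomial

/-- Possible exponents. -/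
def expList (q : ℕ) : List ℕ :=
  [8, 12, 2 * (q + 1), 2 * (q - 1), q ^ 2 - 1, q ^ 2 + q + 1, q ^ 2 - q + 1]

section LinAlg

variable {L : Type*} [Field L] [CharP L 2] {R : Type*} [Ring R] [Algebra L R]

theorem sub_eq_add_two (x y : L[X]) : x - y = x + y := CharTwo.sub_eq_add x y

/-- The cubic with three given roots. -/
noncomputable def cub (a b c : L) : L[X] := (X - C a) * (X - C b) * (X - C c)

theorem pow_of_dvd {f : L[X]} {A : R} (hA : aeval A f = 0) {n : ℕ} (h : f ∣ X ^ n - 1) : A ^ n = 1 := by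
  obtain ⟨g, hg⟩ := h
  have := congrArg (aeval A) hg
  rw [map_sub, map_mul, hA, zero_mul, map_pow, aeval_X, map_one, sub_eq_zero] at this
  exact this

theorem dvd_root {a : L} {n : ℕ} (ha : a ^ n = 1) : (X - C a) ∣ (X ^ n - 1 : L[X]) := by
  rw [dvd_iff_isRoot]; simp [IsRoot, ha]

theorem pow_of_distinct {a b c : L} {A : R} {n : ℕ} (hA : aeval A (cub a b c) = 0) (hab : a ≠ b) (hac : a ≠ c)
    (hbc : b ≠ c) (ha : a ^ n = 1) (hb : b ^ n = 1) (hc : c ^ n = 1) : A ^ n = 1 := by
  refine pow_of_dvd hA ?_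
  refine IsCoprime.mul_dvd (IsCoprime.mul_left ?_ ?_) ?_ (dvd_root hc)
  · exact isCoprime_X_sub_C_of_isUnit_sub ((sub_ne_zero.2 hac).isUnit)
  · exact isCoprime_X_sub_C_of_isUnit_sub ((sub_ne_zero.2 hbc).isUnit)
  · exact IsCoprime.mul_dvd (isCoprime_X_sub_C_of_isUnit_sub ((sub_ne_zero.2 hab).isUnit)) (dvd_root ha) (dvd_root hb)

theorem sq_X_pow (n : ℕ) : (X ^ n - 1 : L[X]) ^ 2 = X ^ (2 * n) - 1 := by
  rw [sub_eq_add_two, sub_eq_add_two, CharTwo.add_sq, one_pow, ← pow_mul, mul_comm]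

theorem pow_of_double {a c : L} {A : R} {n : ℕ} (hA : aeval A (cub a a c) = 0)
    (ha : a ^ n = 1) (hc : c ^ n = 1) (hac : a ≠ c) : A ^ (2 * n) = 1 := by
  refine pow_of_dvd hA ?_
  refine IsCoprime.mul_dvd (IsCoprime.mul_left ?_ ?_) ?_ ((dvd_root hc).trans ⟨X ^ n - 1, ?_⟩)
  · exact isCoprime_X_sub_C_of_isUnit_sub ((sub_ne_zero.2 hac).isUnit)
  · exact isCoprime_X_sub_C_of_isUnit_sub ((sub_ne_zero.2 hac).isUnit)
  · rw [← sq_X_pow, sq]; exact mul_dvd_mul (dvd_root ha) (dvd_root ha)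
  · rw [← sq_X_pow, sq]

theorem pow_of_triple {a : L} {A : R} {n : ℕ} (hA : aeval A (cub a a a) = 0) (ha : a ^ n = 1) :
    A ^ (4 * n) = 1 := by
  refine pow_of_dvd hA ?_
  rw [show 4 * n = 2 * (2 * n) by ring, ← sq_X_pow, ← sq_X_pow, ← pow_mul]
  calc cub a a a = (X - C a) ^ 3 := by rw [cub]; ring
    _ ∣ (X - C a) ^ 4 := pow_dvd_pow _ (by norm_num)
    _ ∣ (X ^ n - 1) ^ 4 := pow_dvd_pow_of_dvd (dvd_root ha) 4

theorem cub_swap12 (a b c : L) : cub a b c = cub b a c := by rw [cub, cub]; ring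
theorem cub_swap23 (a b c : L) : cub a b c = cub a c b := by rw [cub, cub]; ring

/-- Two roots equal. -/
theorem case_double {a c : L} {A : R} (q : ℕ) (hA : aeval A (cub a a c) = 0) (hac : a ≠ c)
    (φ : L → L) (hsub : a * a * c = 1) (hφ : φ a = a ∨ φ a = c) (hφc : φ c = a ∨ φ c = c)
    (hinj : φ a ≠ φ c) (hmul : ∀ x y, φ (x * y) = φ x * φ y) (h1 : φ 1 = 1)
    (hfix : ∀ x, x ≠ 0 → φ x = x → x ^ (q - 1) = 1 ∧ φ = (fun y => y ^ q) ∨ x ^ (q + 1) = 1) :
    ∃ n ∈ expList q, A ^ n = 1 := by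
  have ha0 : a ≠ 0 := fun h => by rw [h, zero_mul, zero_mul] at hsub; exact zero_ne_one hsub
  have hc0 : c ≠ 0 := fun h => by rw [h, mul_zero] at hsub; exact zero_ne_one hsub
  have key : φ a = a := by
    refine hφ.resolve_right fun h => ?_
    have hc : φ c = a := hφc.resolve_right fun h' => hinj (h.trans h'.symm)
    have := congrArg φ hsub
    rw [hmul, hmul, h, hc, h1] at this
    apply hac
    refine mul_left_cancel₀ (mul_ne_zero ha0 hc0) ?_
    linear_combination hsub - this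
  have kc : φ c = c := hφc.resolve_left fun h' => hinj (key.trans h'.symm)
  have hc2 : ∀ m, a ^ m = 1 → c ^ m = 1 := fun m hm => by
    have := congrArg (· ^ m) hsub
    simpa [mul_pow, hm] using this
  rcases hfix a ha0 key with ⟨h, -⟩ | h
  · exact ⟨2 * (q - 1), by simp only [expList, List.mem_cons, true_or, or_true], pow_of_double hA h (hc2 _ h) hac⟩
  · exact ⟨2 * (q + 1), by simp only [expList, List.mem_cons, true_or, or_true], pow_of_double hA h (hc2 _ h) hac⟩

theorem pow_q2 {q : ℕ} (hq : 1 ≤ q) {x : L} (hx : x ≠ 0) (h : x ^ q ^ 2 = x) : x ^ (q ^ 2 - 1) = 1 := by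
  refine mul_right_cancel₀ hx ?_
  rw [← pow_succ, Nat.sub_add_cancel (Nat.one_le_pow _ _ hq), h, one_mul]

/-- The main dichotomy. -/
theorem exists_exp {q : ℕ} (hq : 2 ≤ q) (hq2 : ∀ x y : L, (x + y) ^ q = x ^ q + y ^ q) {a b c : L} {A : R}
    (hA : aeval A (cub a b c) = 0) (habc : a * b * c = 1) (e : Bool)
    (hmaps : ∀ x, (x = a ∨ x = b ∨ x = c) → (if e then x ^ q else (x ^ q)⁻¹) = a ∨
      (if e then x ^ q else (x ^ q)⁻¹) = b ∨ (if e then x ^ q else (x ^ q)⁻¹) = c) :
    ∃ n ∈ expList q, A ^ n = 1 := by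
  obtain ⟨φ, hφ⟩ : ∃ φ : L → L, ∀ x, φ x = if e then x ^ q else (x ^ q)⁻¹ := ⟨_, fun _ => rfl⟩
  simp only [← hφ] at hmaps
  have hmul : ∀ x y, φ (x * y) = φ x * φ y := fun x y => by
    cases e <;> simp [hφ, mul_pow, mul_comm]
  have h1 : φ 1 = 1 := by cases e <;> simp [hφ]
  have hqinj : ∀ x y : L, x ^ q = y ^ q → x = y := fun x y h => by
    have h0 : (x + y) ^ q = 0 := by rw [hq2, h, CharTwo.add_self_eq_zero]
    exact CharTwo.add_eq_zero.1 (pow_eq_zero_iff (by omega) |>.1 h0)
  have hinj : ∀ x y, φ x = φ y → x = y := fun x y h => by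
    cases e <;> simp [hφ] at h <;> exact hqinj _ _ h
  have ha0 : a ≠ 0 := fun h => by rw [h, zero_mul, zero_mul] at habc; exact zero_ne_one habc
  have hb0 : b ≠ 0 := fun h => by rw [h, mul_zero, zero_mul] at habc; exact zero_ne_one habc
  have hc0 : c ≠ 0 := fun h => by rw [h, mul_zero] at habc; exact zero_ne_one habc
  have hfix' : ∀ x, x ≠ 0 → φ x = x → x ^ (q - 1) = 1 ∧ φ = (fun y => y ^ q) ∨ x ^ (q + 1) = 1 := by
    intro x hx h
    cases he : e
    · right
      rw [he] at hφ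
      simp at hφ
      rw [hφ] at h
      rw [pow_succ]
      nth_rewrite 2 [← h]
      rw [mul_inv_cancel₀ (pow_ne_zero _ hx)]
    · left
      rw [he] at hφ
      simp at hφ
      refine ⟨?_, funext hφ⟩
      rw [hφ] at h
      refine mul_right_cancel₀ hx ?_
      rw [← pow_succ, Nat.sub_add_cancel (by omega), h, one_mul]
  by_cases hab : a = b
  · subst hab
    by_cases hac : a = c
    · subst hac
      refine ⟨12, by simp only [expList, List.mem_cons, true_or, or_true], pow_of_triple (n := 3) hA ?_⟩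
      rw [← habc]; ring
    · exact case_double q hA hac φ habc (by rcases hmaps a (Or.inl rfl) with h | h | h <;> simp [h])
        (by rcases hmaps c (by simp) with h | h | h <;> simp [h]) (fun h => hac (hinj _ _ h)) hmul h1 hfix'
  by_cases hac : a = c
  · subst hac
    rw [cub_swap23] at hA
    exact case_double q hA hab φ (by rw [← habc]; ring)
      (by rcases hmaps a (Or.inl rfl) with h | h | h <;> simp [h])
      (by rcases hmaps b (by simp) with h | h | h <;> simp [h]) (fun h => hab (hinj _ _ h)) hmul h1 hfix'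
  by_cases hbc : b = c
  · subst hbc
    rw [cub_swap12, cub_swap23] at hA
    exact case_double q hA (Ne.symm hab) φ (by rw [← habc]; ring)
      (by rcases hmaps b (by simp) with h | h | h <;> simp [h])
      (by rcases hmaps a (by simp) with h | h | h <;> simp [h]) (fun h => hab (hinj _ _ h).symm) hmul h1 hfix'
  have hsq : ∀ x, φ (φ x) = x ^ q ^ 2 := fun x => by
    cases e <;> simp [hφ, ← pow_mul, sq, ← inv_pow]
  have hq1 : 1 ≤ q := by omega
  -- every root is fixed by the square, or the map is a 3-cycle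
  have hcyc : ∀ x y z : L, x * y * z = 1 → x ≠ 0 → φ x = y → φ y = z →
      x ^ (q ^ 2 + q + 1) = 1 ∧ e = true ∨ x ^ (q ^ 2 - q + 1) = 1 ∧ e = false := by
    intro x y z h hx hxy hyz
    rw [← hyz, ← hxy, hsq, hφ] at h
    cases he : e
    · right
      refine ⟨?_, rfl⟩
      rw [he] at h
      simp only [Bool.false_eq_true, if_false] at h
      have hqq : q ≤ q ^ 2 := Nat.le_self_pow (by norm_num) q
      refine mul_right_cancel₀ (pow_ne_zero q hx) ?_
      rw [one_mul, ← pow_add, show q ^ 2 - q + 1 + q = q ^ 2 + 1 by omega, pow_succ]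
      calc x ^ q ^ 2 * x = x * (x ^ q)⁻¹ * x ^ q ^ 2 * x ^ q := by
            field_simp [pow_ne_zero q hx]
        _ = x ^ q := by rw [h, one_mul]
    · left
      refine ⟨?_, rfl⟩
      rw [he] at h
      simp only [if_true] at h
      rw [← h]; ring
  have hset : ∀ x, (x = a ∨ x = b ∨ x = c) → x ≠ 0 := by
    rintro x (rfl | rfl | rfl) <;> assumption
  -- images of the three roots
  obtain ⟨n, hn, ha, hb, hc⟩ : ∃ n ∈ expList q, a ^ n = 1 ∧ b ^ n = 1 ∧ c ^ n = 1 := by
    have three : ∀ x y z : L, x * y * z = 1 → x ≠ 0 → φ x = y → φ y = z → φ z = x →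
        ∃ n ∈ expList q, x ^ n = 1 ∧ y ^ n = 1 ∧ z ^ n = 1 := by
      intro x y z h hx hxy hyz hzx
      have hy : y ≠ 0 := fun h0 => by rw [h0, mul_zero, zero_mul] at h; exact zero_ne_one h
      have hz : z ≠ 0 := fun h0 => by rw [h0, mul_zero] at h; exact zero_ne_one h
      have r1 := hcyc x y z h hx hxy hyz
      have r2 := hcyc y z x (by rw [← h]; ring) hy hyz hzx
      have r3 := hcyc z x y (by rw [← h]; ring) hz hzx hxy
      cases he : e
      · rw [he] at r1 r2 r3
        refine ⟨q ^ 2 - q + 1, by simp only [expList, List.mem_cons, true_or, or_true], ?_, ?_, ?_⟩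
        · exact (r1.resolve_left fun h' => Bool.false_ne_true h'.2).1
        · exact (r2.resolve_left fun h' => Bool.false_ne_true h'.2).1
        · exact (r3.resolve_left fun h' => Bool.false_ne_true h'.2).1
      · rw [he] at r1 r2 r3
        refine ⟨q ^ 2 + q + 1, by simp only [expList, List.mem_cons, true_or, or_true], ?_, ?_, ?_⟩
        · exact (r1.resolve_right fun h' => Bool.false_ne_true h'.2.symm).1
        · exact (r2.resolve_right fun h' => Bool.false_ne_true h'.2.symm).1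
        · exact (r3.resolve_right fun h' => Bool.false_ne_true h'.2.symm).1
    have sq_fix : (φ (φ a) = a ∧ φ (φ b) = b ∧ φ (φ c) = c) →
        ∃ n ∈ expList q, a ^ n = 1 ∧ b ^ n = 1 ∧ c ^ n = 1 := by
      rintro ⟨h1, h2, h3⟩
      rw [hsq] at h1 h2 h3
      exact ⟨q ^ 2 - 1, by simp only [expList, List.mem_cons, true_or, or_true], pow_q2 hq1 ha0 h1, pow_q2 hq1 hb0 h2, pow_q2 hq1 hc0 h3⟩
    have nab : φ a ≠ φ b := fun h => hab (hinj _ _ h)
    have nac : φ a ≠ φ c := fun h => hac (hinj _ _ h)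
    have nbc : φ b ≠ φ c := fun h => hbc (hinj _ _ h)
    have hswap : φ a = c → φ c = b → φ b = a → ∃ n ∈ expList q, a ^ n = 1 ∧ b ^ n = 1 ∧ c ^ n = 1 := by
      intro i1 i2 i3
      obtain ⟨n, hn, h1, h2, h3⟩ := three a c b (by rw [← habc]; ring) ha0 i1 i2 i3
      exact ⟨n, hn, h1, h3, h2⟩
    rcases hmaps a (Or.inl rfl) with ia | ia | ia <;>
      rcases hmaps b (Or.inr (Or.inl rfl)) with ib | ib | ib <;>
        rcases hmaps c (Or.inr (Or.inr rfl)) with ic | ic | ic <;>
          first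
            | exact (nab (ia.trans ib.symm)).elim
            | exact (nac (ia.trans ic.symm)).elim
            | exact (nbc (ib.trans ic.symm)).elim
            | exact three a b c habc ha0 ia ib ic
            | exact hswap ia ic ib
            | (refine sq_fix ⟨?_, ?_, ?_⟩ <;> simp only [ia, ib, ic])
  exact ⟨n, hn, pow_of_distinct hA hab hac hbc ha hb hc⟩

end LinAlg

end Cfsg.Agent.G2Orders
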