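import Cfsg.Agent.Lib.G2Orders.Descent

/-! Exponents of the elements of `G₂(q)`, `q` even. -/

set_option autoImplicit false

namespace Cfsg.Agent.G2Orders

open Matrix Cfsg.Lie G2Oct UnionTwoClasses

variable {F : Type*} [Field F] {K : Type*} [Field K] [CharP K 2]

theorem add_one_one (x : Fin 8 → K) : x + one8 + one8 = x := by
  rw [add_assoc]; ext i; simp [CharTwo.add_self_eq_zero]

theorem slHom_inj_eq {A B : Matrix.SpecialLinearGroup (Fin 3) K} (h : slHom A = slHom B) : A = B :=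
  slHom_injective h

/-- Relation between the invariants of a fixed element and the Frobenius. -/
theorem rel_of_fixed (φ : F →+* K) (σ : K →+* K) (hσφ : ∀ x, σ (φ x) = φ x) {g : GL (Fin 8) F}
    {x : Fin 8 → F} {ρ : K} (hρ : σ ρ = ρ ∨ σ ρ = ρ + 1) {r : GL (Fin 8) K} (hr : r ∈ Lie.G2 K)
    (hre : app r (φ ∘ x + ρ • one8) = idem0)
    {A : Matrix.SpecialLinearGroup (Fin 3) K} (hA : slHom A = r * gmap φ g * r⁻¹) :
    (σ (A : Matrix (Fin 3) (Fin 3) K).trace = (A : Matrix (Fin 3) (Fin 3) K).trace ∧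
      σ (cof (A : Matrix (Fin 3) (Fin 3) K)).trace = (cof (A : Matrix (Fin 3) (Fin 3) K)).trace) ∨
    (σ (A : Matrix (Fin 3) (Fin 3) K).trace = (cof (A : Matrix (Fin 3) (Fin 3) K)).trace ∧
      σ (cof (A : Matrix (Fin 3) (Fin 3) K)).trace = (A : Matrix (Fin 3) (Fin 3) K).trace) := by
  have hh : gmap σ (gmap φ g) = gmap φ g := by
    refine Units.ext (Matrix.ext fun i j => ?_)
    exact hσφ _
  have hrσ : gmap σ r ∈ Lie.G2 K := gmap_mem σ hr
  have hσ1 : σ ∘ (one8 : Fin 8 → K) = one8 := by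
    ext i; fin_cases i <;> simp [one8, mk]
  have hσ0 : σ ∘ (idem0 : Fin 8 → K) = idem0 := by
    ext i; fin_cases i <;> simp [idem0, mk]
  have hσe : app (gmap σ r) (φ ∘ x + σ ρ • one8) = idem0 := by
    have := app_gmap σ r (φ ∘ x + ρ • one8)
    rw [hre, hσ0] at this
    rw [← this]
    congr 1
    funext i
    simp [hσφ, show σ ((one8 : Fin 8 → K) i) = (one8 : Fin 8 → K) i from congrFun hσ1 i]
  have hconj : slHom (Matrix.SpecialLinearGroup.map σ A) =
      (gmap σ r * r⁻¹) * slHom A * (gmap σ r * r⁻¹)⁻¹ := by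
    rw [← gmap_slHom, hA, map_mul, map_mul, map_inv, hh]
    group
  obtain ⟨u, hu⟩ : ∃ u, u = gmap σ r * r⁻¹ := ⟨_, rfl⟩
  rw [← hu] at hconj
  have humem : u ∈ Lie.G2 K := hu ▸ mul_mem hrσ (inv_mem hr)
  have hu0 : app u idem0 = app (gmap σ r) (φ ∘ x + ρ • one8) := by
    rw [hu, app_mul]
    congr 1
    refine app_inj r ?_
    rw [← app_mul, mul_inv_cancel, app_one, hre]
  have tr_map : (Matrix.SpecialLinearGroup.map σ A : Matrix (Fin 3) (Fin 3) K).trace =
      σ (A : Matrix (Fin 3) (Fin 3) K).trace := by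
    simp [Matrix.trace, Fin.sum_univ_three]
  have trc_map : (cof (Matrix.SpecialLinearGroup.map σ A : Matrix (Fin 3) (Fin 3) K)).trace =
      σ (cof (A : Matrix (Fin 3) (Fin 3) K)).trace := by
    simp [Matrix.trace, cof, Fin.sum_univ_three, map_sub, map_mul]
  have trB : ∀ B : Matrix.SpecialLinearGroup (Fin 3) K,
      ((B * A * B⁻¹ : Matrix.SpecialLinearGroup (Fin 3) K) : Matrix (Fin 3) (Fin 3) K).trace =
        (A : Matrix (Fin 3) (Fin 3) K).trace ∧
      (cof ((B * A * B⁻¹ : Matrix.SpecialLinearGroup (Fin 3) K) : Matrix (Fin 3) (Fin 3) K)).trace =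
        (cof (A : Matrix (Fin 3) (Fin 3) K)).trace := by
    intro B
    have h1 : (B⁻¹).1 * B.1 = 1 := congrArg Subtype.val (inv_mul_cancel B)
    show (B.1 * A.1 * (B⁻¹).1).trace = A.1.trace ∧ (cof (B.1 * A.1 * (B⁻¹).1)).trace = (cof A.1).trace
    rw [cof_mul, cof_mul]
    exact ⟨trace_conj h1, trace_conj (by rw [← cof_mul, h1, cof_one])⟩
  rcases hρ with hρ | hρ
  · left
    rw [hρ] at hσe
    rw [hσe] at hu0
    obtain ⟨B, hB⟩ := stab_slHom humem hu0
    rw [← hB, ← map_inv, ← map_mul, ← map_mul] at hconj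
    have e := slHom_inj_eq hconj
    rw [← tr_map, ← trc_map, e]
    exact trB B
  · right
    have h1 : φ ∘ x + ρ • (one8 : Fin 8 → K) = (φ ∘ x + σ ρ • one8) + one8 := by
      rw [hρ, add_smul, one_smul, ← add_assoc, add_one_one]
    rw [h1, app_add, hσe, app_one8 hrσ] at hu0
    have hwu : app (wG * u) idem0 = idem0 := by
      rw [app_mul, hu0, app_add, wG_idem, app_one8 wG_mem, add_one_one]
    obtain ⟨B, hB⟩ := stab_slHom (mul_mem wG_mem humem) hwu
    have huw : u = wG * slHom B := by rw [hB, ← mul_assoc, wG_sq, one_mul]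
    have hwinv : (wG : GL (Fin 8) K)⁻¹ = wG := inv_eq_of_mul_eq_one_right wG_sq
    have h2 : slHom (Matrix.SpecialLinearGroup.map σ A) = slHom (cofSL (B * A * B⁻¹)) := by
      rw [hconj, huw, ← wG_slHom, map_mul, map_mul, map_inv, _root_.mul_inv_rev, hwinv]
      group
    have e := slHom_inj_eq h2
    rw [← tr_map, ← trc_map, e]
    refine ⟨(trB B).2, ?_⟩
    show (cof (cof _)).trace = _
    rw [cof_cof, (B * A * B⁻¹).2, one_smul]
    exact (trB B).1

/-- Every element of `G₂(2 ^ a)` is killed by one of the listed exponents. -/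
theorem exists_exp_G2 [Fintype F] {a : ℕ} (ha : 1 ≤ a) (hF : Fintype.card F = 2 ^ a) {g : GL (Fin 8) F}
    (hg : g ∈ Lie.G2 F) : ∃ n ∈ expList (2 ^ a), g ^ n = 1 := by
  haveI : CharP F 2 := by
    obtain ⟨p, hp⟩ := CharP.exists F
    haveI := hp
    obtain ⟨⟨n, hn⟩, hprime, hc⟩ := FiniteField.card F p
    have hdvd : p ∣ 2 ^ a := hF ▸ hc ▸ dvd_pow_self p (Nat.pos_iff_ne_zero.1 hn)
    rwa [← (Nat.prime_dvd_prime_iff_eq hprime Nat.prime_two).1 (hprime.dvd_of_dvd_pow hdvd)]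
  obtain ⟨K, _, _, _, φ, σ, -, hσ, -, hσφ, -, hroot⟩ := exists_quad hF
  obtain ⟨x, hxt, hgx⟩ := exists_stable_pair hg
  obtain ⟨ρ, hρ, hρσ, -⟩ := hroot (octQ x)
  obtain ⟨h, hh⟩ : ∃ h, h = gmap φ g := ⟨_, rfl⟩
  have hhm : h ∈ Lie.G2 K := hh ▸ gmap_mem φ hg
  have hφ1 : φ ∘ (one8 : Fin 8 → F) = one8 := by ext i; fin_cases i <;> simp [one8, mk]
  obtain ⟨e, he⟩ : ∃ e, e = φ ∘ x + ρ • (one8 : Fin 8 → K) := ⟨_, rfl⟩
  have het : octTr e = 1 := by
    rw [he, octTr_add_one, show octTr (φ ∘ x) = φ (octTr x) by simp [octTr], hxt, map_one]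
  have heq : octQ e = 0 := by
    rw [he, octQ_add_one, show octQ (φ ∘ x) = φ (octQ x) by simp [octQ, dot3],
      show octTr (φ ∘ x) = φ (octTr x) by simp [octTr], hxt, map_one, ← hρ]
    linear_combination (ρ ^ 2 + ρ) * (CharTwo.two_eq_zero (R := K))
  have hidem : e ∈ idemSet K := by
    refine ⟨?_, fun h0 => ?_, fun h0 => ?_⟩
    · rw [mulVec_sq, het, heq, one_smul, zero_smul, sub_zero]
    · rw [h0] at het; simp [octTr] at het
    · rw [h0] at het; simp [octTr, one8, mk, CharTwo.add_self_eq_zero] at het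
  obtain ⟨r, hr, hre⟩ := reach_all hidem
  have hq : (2 : ℕ) ≤ 2 ^ a := Nat.le_self_pow (by omega) 2
  have back : ∀ n, (r * h * r⁻¹) ^ n = 1 → g ^ n = 1 := fun n hn => by
    apply gmap_injective φ
    rw [map_pow, ← hh, map_one]
    rw [conj_pow] at hn
    exact conj_eq_one_iff.1 hn
  rcases hgx with hgx | hgx
  · -- the element fixes the vector
    have hhe : app (r * h * r⁻¹) idem0 = idem0 := by
      rw [app_mul, app_mul, ← hre, ← app_mul r⁻¹, inv_mul_cancel, app_one]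
      congr 1
      rw [hh, he, app_add, app_gmap, hgx, app_smul, app_one8 (gmap_mem φ hg)]
    obtain ⟨A, hA⟩ := stab_slHom (mul_mem (mul_mem hr hhm) (inv_mem hr)) hhe
    have key : ∀ b : Bool, (if b then ((A : Matrix (Fin 3) (Fin 3) K).trace ^ 2 ^ a = (A : Matrix (Fin 3) (Fin 3) K).trace ∧
          (cof (A : Matrix (Fin 3) (Fin 3) K)).trace ^ 2 ^ a = (cof (A : Matrix (Fin 3) (Fin 3) K)).trace)
        else ((A : Matrix (Fin 3) (Fin 3) K).trace ^ 2 ^ a = (cof (A : Matrix (Fin 3) (Fin 3) K)).trace ∧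
          (cof (A : Matrix (Fin 3) (Fin 3) K)).trace ^ 2 ^ a = (A : Matrix (Fin 3) (Fin 3) K).trace)) →
        ∃ n ∈ expList (2 ^ a), g ^ n = 1 := by
      intro b hb
      obtain ⟨n, hn, hAn⟩ := exists_exp_matrix ha rfl _ A.2 b hb
      have : A ^ n = 1 := Subtype.ext ((Matrix.SpecialLinearGroup.coe_pow A n).trans hAn)
      exact ⟨n, hn, back n (by rw [← hA, ← map_pow, this, map_one])⟩
    rcases rel_of_fixed φ σ hσφ hρσ hr (he ▸ hre) (hh ▸ hA) with ⟨h1, h2⟩ | ⟨h1, h2⟩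
    · exact key true (by simp only [if_true, ← hσ]; exact ⟨h1, h2⟩)
    · exact key false (by simp only [Bool.false_eq_true, if_false, ← hσ]; exact ⟨h1, h2⟩)
  · -- the element moves the vector to its partner
    have hhe : app (r * h * r⁻¹) idem0 = idem0 + one8 := by
      rw [app_mul, app_mul, ← hre, ← app_mul r⁻¹, inv_mul_cancel, app_one, ← app_one8 hr, ← app_add]
      congr 1
      rw [hh, he, app_add, app_gmap, hgx, app_smul, app_one8 (gmap_mem φ hg)]
      funext i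
      simp only [Pi.add_apply, Pi.smul_apply, Function.comp_apply, map_add, smul_eq_mul]
      rw [show φ ((one8 : Fin 8 → F) i) = (one8 : Fin 8 → K) i from congrFun hφ1 i]
      ring
    have hw : app (wG * (r * h * r⁻¹)) idem0 = idem0 := by
      rw [app_mul, hhe, app_add, wG_idem, app_one8 wG_mem, add_one_one]
    obtain ⟨C, hC⟩ := stab_slHom (mul_mem wG_mem (mul_mem (mul_mem hr hhm) (inv_mem hr))) hw
    obtain ⟨A, hAdef⟩ : ∃ A, A = cofSL C * C := ⟨_, rfl⟩
    have hA : slHom A = r * gmap φ (g * g) * r⁻¹ := by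
      have hk : r * h * r⁻¹ = wG * slHom C := by rw [hC, ← mul_assoc, wG_sq, one_mul]
      rw [hAdef, map_mul, ← wG_slHom, mul_assoc _ wG (slHom C), mul_assoc wG, ← mul_assoc, ← hk, map_mul, ← hh]
      group
    have hsym : (cof (A : Matrix (Fin 3) (Fin 3) K)).trace = (A : Matrix (Fin 3) (Fin 3) K).trace := by
      subst hAdef
      show (cof (cof (C : Matrix (Fin 3) (Fin 3) K) * (C : Matrix (Fin 3) (Fin 3) K))).trace = _
      rw [cof_mul, cof_cof, C.2, one_smul, Matrix.trace_mul_comm]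
      rfl
    have hfix : σ (A : Matrix (Fin 3) (Fin 3) K).trace = (A : Matrix (Fin 3) (Fin 3) K).trace := by
      rcases rel_of_fixed φ σ hσφ hρσ hr (he ▸ hre) hA with ⟨h1, -⟩ | ⟨h1, -⟩
      · exact h1
      · exact h1.trans hsym
    rw [hσ] at hfix
    haveI : CharP (AlgebraicClosure K) 2 := charP_of_injective_algebraMap (algebraMap K _).injective 2
    have key : ∀ n, (A : Matrix (Fin 3) (Fin 3) K) ^ n = 1 → g ^ (2 * n) = 1 := fun n hn => by
      have h1 : A ^ n = 1 := Subtype.ext ((Matrix.SpecialLinearGroup.coe_pow A n).trans hn)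
      refine back _ ?_
      rw [pow_mul, conj_pow, sq, hh, ← map_mul, ← hA, ← map_pow, h1, map_one]
    rcases outer_exp hq A.2 hsym hfix (fun u v => add_pow_char_pow u v 2 a) with h4 | h4 | h4
    · exact ⟨8, by simp [expList], key 4 h4⟩
    · exact ⟨2 * (2 ^ a - 1), by simp [expList], key _ h4⟩
    · exact ⟨2 * (2 ^ a + 1), by simp [expList], key _ h4⟩

end Cfsg.Agent.G2Orders
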